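import Mathlib
import Groth.Agent.S14379
import Groth.Agent.FlatFibres.AffineDim

/-!
# Noether normalization of both fibres over a discrete valuation ring

A variant of `S14379` which only assumes a bound on the dimension of the generic fibre.
-/

set_option autoImplicit false
set_option linter.style.haveILetI false

universe u

open scoped TensorProduct
open AlgebraicGeometry

namespace Groth.Agent.TwoFibre

open S14379 (IntOver fib step exists_relation intOver_of_gen finite_aeval)

theorem dim_le_of_smooth {K B : Type u} [Field K] [CommRing B] [Algebra K B] {d : ℕ}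
    (h : SmoothOfRelativeDimension d (Spec.map (CommRingCat.ofHom (algebraMap K B)))) :
    ringKrullDim B ≤ (d : WithBot ℕ∞) := by
  rw [HasRingHomProperty.Spec_iff (P := @SmoothOfRelativeDimension d), CommRingCat.hom_ofHom] at h
  obtain ⟨s, hs, hloc⟩ := h
  refine (ringKrullDim_le_iff_isMaximal_height_le _).2 fun m hm => ?_
  obtain ⟨t, hts, htm⟩ : ∃ t ∈ s, t ∉ m := by
    by_contra hne
    push Not at hne
    exact hm.ne_top (top_le_iff.mp (hs ▸ Ideal.span_le.mpr hne))
  have hst := hloc t hts
  rw [← IsScalarTower.algebraMap_eq, RingHom.isStandardSmoothOfRelativeDimension_algebraMap] at hst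
  haveI := hst
  have hdisj : Disjoint (Submonoid.powers t : Set B) (m : Set B) :=
    (Ideal.disjoint_powers_iff_notMem t hm.isPrime.isRadical).2 htm
  haveI hq : (m.map (algebraMap B (Localization.Away t))).IsPrime :=
    IsLocalization.isPrime_of_isPrime_disjoint (Submonoid.powers t) _ _ hm.isPrime hdisj
  haveI : Nontrivial (Localization.Away t) :=
    (⟨m.map (algebraMap B (Localization.Away t)), hq⟩ : PrimeSpectrum (Localization.Away t)).nontrivial
  rw [← SmoothDim.ringKrullDim_eq K (Localization.Away t) d, ← IsLocalization.under_map_of_isPrime_disjoint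
    (Submonoid.powers t) (Localization.Away t) hm.isPrime hdisj,
    IsLocalization.height_under (Submonoid.powers t)]
  exact Ideal.height_le_ringKrullDim_of_ne_top hq.ne_top

theorem smooth_affineSpace {V : Type u} [CommRing V] (K : Type u) [Field K] [Algebra V K] (d : ℕ) :
    SmoothOfRelativeDimension d
      (Spec.map (CommRingCat.ofHom (algebraMap K (K ⊗[V] MvPolynomial (Fin d) V)))) := by
  refine (HasRingHomProperty.Spec_iff (P := @SmoothOfRelativeDimension d)).2
    (RingHom.locally_of RingHom.isStandardSmoothOfRelativeDimension_respectsIso _ ?_)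
  rw [CommRingCat.hom_ofHom, RingHom.isStandardSmoothOfRelativeDimension_algebraMap]
  have h := FlatFibres.isStandardSmoothOfRelativeDimension_mvPolynomial V (ULift.{u} (Fin d))
  rw [Nat.card_ulift, Nat.card_fin] at h
  haveI : Algebra.IsStandardSmoothOfRelativeDimension d V (MvPolynomial (Fin d) V) :=
    Algebra.IsStandardSmoothOfRelativeDimension.of_algEquiv d (MvPolynomial.renameEquiv V Equiv.ulift)
  infer_instance

variable {V : Type u} [CommRing V] [IsDomain V] [IsDiscreteValuationRing V]
  {R : Type u} [CommRing R] [Algebra V R] [Module.Flat V R]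

/-- A relation on the generic fibre gives one on the special fibre. -/
theorem exists_special_relation {n : ℕ} (z : Fin n → R) (F : MvPolynomial (Fin n) (FractionRing V))
    (hF0 : F ≠ 0) (hF : MvPolynomial.aeval (fib (V := V) (FractionRing V) z) F = 0) :
    ∃ G : MvPolynomial (Fin n) (IsLocalRing.ResidueField V),
      G ≠ 0 ∧ MvPolynomial.aeval (fib (V := V) (IsLocalRing.ResidueField V) z) G = 0 := by
  classical
  let K := FractionRing V
  let k := IsLocalRing.ResidueField V
  have hfib : ∀ (L : Type u) [Field L] [Algebra V L] (g : MvPolynomial (Fin n) V),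
      MvPolynomial.aeval (fib (V := V) L z) (MvPolynomial.map (algebraMap V L) g) =
        (1 : L) ⊗ₜ[V] MvPolynomial.aeval z g := by
    intro L _ _ g
    rw [MvPolynomial.aeval_map_algebraMap]
    exact (DFunLike.congr_fun
      (MvPolynomial.comp_aeval z (Algebra.TensorProduct.includeRight : R →ₐ[V] L ⊗[V] R)) g).symm
  obtain ⟨c, hc⟩ := IsLocalization.exist_integer_multiples (nonZeroDivisors V) F.support (fun a => F.coeff a)
  have hc0 : algebraMap V K c ≠ 0 := IsFractionRing.to_map_ne_zero_of_mem_nonZeroDivisors c.2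
  obtain ⟨g, hg⟩ : ∃ g : MvPolynomial (Fin n) V,
      MvPolynomial.map (algebraMap V K) g = MvPolynomial.C (algebraMap V K c) * F := by
    choose b hb using hc
    refine ⟨∑ a ∈ F.support.attach, MvPolynomial.monomial a.1 (b a.1 a.2), ?_⟩
    conv_rhs => rw [F.as_sum, Finset.mul_sum]
    rw [map_sum, ← Finset.sum_attach F.support]
    refine Finset.sum_congr rfl fun a _ => ?_
    rw [MvPolynomial.map_monomial, MvPolynomial.C_mul_monomial, hb, Algebra.smul_def]
  have hg0 : g ≠ 0 := by
    rintro rfl
    rw [map_zero, eq_comm, mul_eq_zero, MvPolynomial.C_eq_zero] at hg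
    exact hg.elim hc0 hF0
  have hgz : MvPolynomial.aeval z g = 0 := by
    refine Algebra.TensorProduct.includeRight_injective (B := R) (IsFractionRing.injective V K) ?_
    rw [map_zero, Algebra.TensorProduct.includeRight_apply, ← hfib, hg, map_mul, hF, mul_zero]
  obtain ⟨ϖ, hϖ⟩ := IsDiscreteValuationRing.exists_irreducible V
  have key : ∀ (m : ℕ) (g : MvPolynomial (Fin n) V), MvPolynomial.aeval z g = 0 →
      (∃ a, ¬ ϖ ^ m ∣ g.coeff a) →
        ∃ G : MvPolynomial (Fin n) k, G ≠ 0 ∧ MvPolynomial.aeval (fib (V := V) k z) G = 0 := by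
    intro m
    induction m with
    | zero => exact fun g _ ⟨a, ha⟩ => absurd (by rw [pow_zero]; exact one_dvd _) ha
    | succ m ih =>
      intro g hg ⟨a, ha⟩
      by_cases hall : ∀ b, ϖ ∣ g.coeff b
      · obtain ⟨g', rfl⟩ := (MvPolynomial.C_dvd_iff_dvd_coeff ϖ g).2 hall
        refine ih g' ?_ ⟨a, fun hd => ha ?_⟩
        · rw [map_mul, MvPolynomial.aeval_C, ← Algebra.smul_def] at hg
          have := Module.Flat.isTorsionFree (R := V) (M := R)
          exact (smul_eq_zero.1 hg).resolve_left hϖ.ne_zero
        · rw [MvPolynomial.coeff_C_mul, pow_succ']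
          exact mul_dvd_mul_left _ hd
      · push Not at hall
        obtain ⟨b, hb⟩ := hall
        refine ⟨MvPolynomial.map (algebraMap V k) g, fun h0 => hb ?_, ?_⟩
        · have h1 := congrArg (fun q => MvPolynomial.coeff b q) h0
          simp only [MvPolynomial.coeff_map, MvPolynomial.coeff_zero] at h1
          rw [IsLocalRing.ResidueField.algebraMap_eq, IsLocalRing.residue_eq_zero_iff,
            hϖ.maximalIdeal_eq, Ideal.mem_span_singleton] at h1
          exact h1
        · rw [hfib, hg, TensorProduct.tmul_zero]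
  obtain ⟨a, ha⟩ := MvPolynomial.exists_coeff_ne_zero hg0
  obtain ⟨m, u, hu⟩ := IsDiscreteValuationRing.eq_unit_mul_pow_irreducible ha hϖ
  refine key (m + 1) g hgz ⟨a, fun hd => ?_⟩
  rw [hu, u.dvd_mul_left, pow_dvd_pow_iff hϖ.ne_zero hϖ.not_isUnit] at hd
  omega

/-- Perturbation by `N`-th powers making a family finite on both fibres. -/
theorem exists_perturbation [Algebra.FiniteType V R] (d : ℕ)
    (hη : ringKrullDim (FractionRing V ⊗[V] R) ≤ d) (x : Fin d → R) (N : ℕ) (hN : 1 ≤ N) :
    ∃ y : Fin d → R, (∀ i, y i ∈ Subring.closure (Set.range fun r : R => r ^ N)) ∧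
      (MvPolynomial.aeval (fun i => (1 : IsLocalRing.ResidueField V) ⊗ₜ[V] (x i + y i)) :
          MvPolynomial (Fin d) (IsLocalRing.ResidueField V) →ₐ[IsLocalRing.ResidueField V]
            IsLocalRing.ResidueField V ⊗[V] R).toRingHom.Finite ∧
      (MvPolynomial.aeval (fun i => (1 : FractionRing V) ⊗ₜ[V] (x i + y i)) :
          MvPolynomial (Fin d) (FractionRing V) →ₐ[FractionRing V] FractionRing V ⊗[V] R).toRingHom.Finite := by
  classical
  let k := IsLocalRing.ResidueField V
  let K := FractionRing V
  set C := Subring.closure (Set.range fun r : R => r ^ N) with hC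
  have main : ∀ (m : ℕ) (z : Fin (d + m) → R), IntOver k (fib (V := V) k z) → IntOver K (fib (V := V) K z) →
      ∃ y : Fin d → R, (∀ i, y i - z (Fin.castAdd m i) ∈ C) ∧
        IntOver k (fib (V := V) k y) ∧ IntOver K (fib (V := V) K y) := by
    intro m
    induction m with
    | zero => exact fun z h1 h2 => ⟨z, fun i => by simp [zero_mem], h1, h2⟩
    | succ m ih =>
      intro z h1 h2
      obtain ⟨F2, hF2, hF2'⟩ := exists_relation hη (by omega : d < d + (m + 1)) _ h2
      obtain ⟨F1, hF1, hF1'⟩ := exists_special_relation z F2 hF2 hF2'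
      set B := max F1.totalDegree F2.totalDegree + 1 with hB
      let z' : Fin (d + m) → R := fun i => z i.castSucc - z (Fin.last _) ^ (N * B ^ ((i : ℕ) + 1))
      have s1 := step (fib (V := V) k z) h1 F1 hF1 hF1' N B hN (by omega)
      have s2 := step (fib (V := V) K z) h2 F2 hF2 hF2' N B hN (by omega)
      have e1 : ∀ (L : Type u) [Field L] [Algebra V L], fib (V := V) L z' = fun i : Fin (d + m) =>
          fib (V := V) L z i.castSucc - fib (V := V) L z (Fin.last _) ^ (N * B ^ ((i : ℕ) + 1)) := by
        intro L _ _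
        funext i
        simp [fib, z', TensorProduct.tmul_sub, Algebra.TensorProduct.tmul_pow]
      obtain ⟨y, hy, hy1, hy2⟩ := ih z' (by rw [e1]; exact s1) (by rw [e1]; exact s2)
      refine ⟨y, fun i => ?_, hy1, hy2⟩
      have hpow : z (Fin.last (d + m)) ^ (N * B ^ ((i : ℕ) + 1)) ∈ C :=
        Subring.subset_closure ⟨z (Fin.last (d + m)) ^ (B ^ ((i : ℕ) + 1)), by
          simp only [← pow_mul, mul_comm]⟩
      have := sub_mem (hy i) hpow
      simp only [z', Fin.val_castAdd] at this
      have e2 : ∀ (a b c : R), a - (b - c) - c = a - b := fun a b c => by ring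
      exact (e2 (y i) (z (Fin.castAdd m i).castSucc) (z (Fin.last (d + m)) ^ (N * B ^ ((i : ℕ) + 1)))) ▸ this
  obtain ⟨G, hG⟩ := (Algebra.FiniteType.out : (⊤ : Subalgebra V R).FG)
  let z : Fin (d + G.card) → R := Fin.append x (fun j => (G.equivFin.symm j : R))
  have hz : Algebra.adjoin V (Set.range z) = ⊤ := by
    rw [eq_top_iff, ← hG]
    refine Algebra.adjoin_mono fun g hg => ⟨Fin.natAdd d (G.equivFin ⟨g, hg⟩), ?_⟩
    simp [z]
  obtain ⟨w, hw, hw1, hw2⟩ := main _ z (intOver_of_gen z hz) (intOver_of_gen z hz)
  refine ⟨fun i => w i - x i, fun i => by simpa [z] using hw i, ?_, ?_⟩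
  · have e : (fun i => (1 : k) ⊗ₜ[V] (x i + (w i - x i))) = fib (V := V) k w := funext fun i => by simp [fib]
    erw [e]
    exact finite_aeval w hw1
  · have e : (fun i => (1 : K) ⊗ₜ[V] (x i + (w i - x i))) = fib (V := V) K w := funext fun i => by simp [fib]
    erw [e]
    exact finite_aeval w hw2

/-- The kernel of `Ω[R⁄V] → Ω[R⁄V[T]]` is spanned by the differentials of the coordinates. -/
theorem ker_map_eq_span {V R : Type u} [CommRing V] [CommRing R] [Algebra V R] {d : ℕ} (x : Fin d → R)
    [Algebra (MvPolynomial (Fin d) V) R] [IsScalarTower V (MvPolynomial (Fin d) V) R]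
    (hx : ∀ q : MvPolynomial (Fin d) V, algebraMap (MvPolynomial (Fin d) V) R q = MvPolynomial.aeval x q) :
    LinearMap.ker (KaehlerDifferential.map V (MvPolynomial (Fin d) V) R R) =
      Submodule.span R (Set.range fun i => KaehlerDifferential.D V R (x i)) := by
  refine le_antisymm (fun ω hω => ?_) (Submodule.span_le.2 ?_)
  · obtain ⟨t, rfl⟩ := (KaehlerDifferential.exact_mapBaseChange_map V (MvPolynomial (Fin d) V) R ω).1 hω
    induction t using TensorProduct.induction_on with
    | zero => simp
    | add a b ha hb =>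
      rw [map_add]
      exact add_mem (ha ((KaehlerDifferential.exact_mapBaseChange_map V _ R _).2 ⟨a, rfl⟩))
        (hb ((KaehlerDifferential.exact_mapBaseChange_map V _ R _).2 ⟨b, rfl⟩))
    | tmul r η =>
      rw [KaehlerDifferential.mapBaseChange_tmul]
      refine Submodule.smul_mem _ _ ?_
      clear hω
      have hη : η ∈ Submodule.span (MvPolynomial (Fin d) V)
          (Set.range (KaehlerDifferential.D V (MvPolynomial (Fin d) V))) := by
        rw [KaehlerDifferential.span_range_derivation]; exact Submodule.mem_top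
      induction hη using Submodule.span_induction with
      | zero => simp
      | add a b _ _ ha hb => rw [map_add]; exact add_mem ha hb
      | smul a b _ hb =>
        rw [map_smul, ← algebraMap_smul R a]
        exact Submodule.smul_mem _ _ hb
      | mem b hb =>
        obtain ⟨q, rfl⟩ := hb
        rw [KaehlerDifferential.map_D, hx]
        induction q using MvPolynomial.induction_on with
        | C a => simp
        | add a b ha hb => rw [map_add, map_add]; exact add_mem ha hb
        | mul_X a i ha =>
          rw [map_mul, Derivation.leibniz, MvPolynomial.aeval_X]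
          exact add_mem (Submodule.smul_mem _ _ (Submodule.subset_span ⟨i, rfl⟩)) (Submodule.smul_mem _ _ ha)
  · rintro _ ⟨i, rfl⟩
    rw [SetLike.mem_coe, LinearMap.mem_ker, KaehlerDifferential.map_D]
    have e : algebraMap R R (x i) = algebraMap (MvPolynomial (Fin d) V) R (MvPolynomial.X i) := by
      rw [hx, MvPolynomial.aeval_X]; rfl
    rw [e, Derivation.map_algebraMap]

/-- Vanishing along the closed fibre, relative and absolute. -/
theorem smul_top_le_iff {V R : Type u} [CommRing V] [CommRing R] [Algebra V R] {d : ℕ} (x : Fin d → R)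
    [Algebra (MvPolynomial (Fin d) V) R] [IsScalarTower V (MvPolynomial (Fin d) V) R]
    (hx : ∀ q : MvPolynomial (Fin d) V, algebraMap (MvPolynomial (Fin d) V) R q = MvPolynomial.aeval x q)
    (I J : Ideal R) :
    I • (⊤ : Submodule R (Ω[R⁄MvPolynomial (Fin d) V])) ≤ J • ⊤ ↔
      I • (⊤ : Submodule R (Ω[R⁄V])) ≤
        J • ⊤ ⊔ Submodule.span R (Set.range fun i => KaehlerDifferential.D V R (x i)) := by
  set g := KaehlerDifferential.map V (MvPolynomial (Fin d) V) R R with hg
  have htop : ∀ L : Ideal R, (L • (⊤ : Submodule R (Ω[R⁄V]))).map g = L • ⊤ := fun L => by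
    rw [Submodule.map_smul'', Submodule.map_top,
      LinearMap.range_eq_top.2 (KaehlerDifferential.map_surjective V (MvPolynomial (Fin d) V) R)]
  rw [← htop I, ← htop J, Submodule.map_le_iff_le_comap, Submodule.comap_map_eq, hg, ker_map_eq_span x hx]

end Groth.Agent.TwoFibre
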